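import Groth.Agent.NormAmpleX.LineNorm
import Groth.Agent.H23.CoverPush
import Groth.Prelude.Def_Fitting
import Groth.Prelude.Def_Mor2

/-!
# The norm of a finite locally free morphism of constant degree
-/

universe u

set_option autoImplicit false
set_option backward.isDefEq.respectTransparency false
set_option backward.isDefEq.respectTransparency.types false
set_option linter.style.haveILetI false
set_option maxHeartbeats 800000

open CategoryTheory AlgebraicGeometry TopologicalSpace

namespace Groth.Agent.NormFree7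

open Groth.Agent Groth.Agent.H23 Groth.Agent.NormAmpleX

variable {X Y : Scheme.{u}} {π : X ⟶ Y}

/-- A point at which the norm does not vanish is below points at which the function does not vanish. -/
theorem mem_basicOpen_of_normW {P : Y.Opens} {D : ℕ} (hD : 0 < D) {W : Y.Opens} (hW : OkFree π P D W)
    (a : Γ(X, π ⁻¹ᵁ W)) (z : X) (hz : π z ∈ W) (hN : π z ∈ Y.basicOpen (normW hW a)) : z ∈ X.basicOpen a := by
  obtain ⟨s, hs, hn, hd⟩ := hW.2.choose_spec
  let W₁ := Y.basicOpen (normW hW a)
  have hle : W₁ ≤ W := Y.basicOpen_le _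
  letI := alg π W
  letI := alg π W₁
  have hne : D / rk hW ≠ 0 := (Nat.div_pos (Nat.le_of_dvd hD hd) hn).ne'
  have h1 : IsUnit (AModX.resR hle (normW hW a)) :=
    RingedSpace.isUnit_res_basicOpen Y.toRingedSpace (normW hW a)
  change IsUnit (AModX.resR hle (Algebra.norm Γ(Y, W) a ^ (D / rk hW))) at h1
  rw [map_pow, isUnit_pow_iff hne,
    ← norm_map (AModX.resR hle) (AModX.resR (π.preimage_mono hle)) (fun r => by
      show X.presheaf.map _ ((π.app W).hom r) = (π.app W₁).hom (Y.presheaf.map _ r)
      exact (congr($(π.naturality (homOfLE hle).op).hom r)).symm)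
      (basisOf π hs W le_rfl) (basisOf π hs W₁ hle) (fun i => by
      rw [basisOf_apply, basisOf_apply]
      show _ = X.presheaf.map _ (X.presheaf.map _ _)
      rw [← ConcreteCategory.comp_apply, ← X.presheaf.map_comp]
      rfl) a] at h1
  have h2 := (isUnit_of_isUnit_norm (basisOf π hs W₁ hle) h1).map (X.presheaf.germ (π ⁻¹ᵁ W₁) z hN).hom
  refine (X.mem_basicOpen a z hz).2 ?_
  rwa [show (X.presheaf.germ (π ⁻¹ᵁ W₁) z _).hom (AModX.resR (π.preimage_mono hle) a) =
    X.presheaf.germ (π ⁻¹ᵁ W) z hz a from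
      TopCat.Presheaf.germ_res_apply X.presheaf (homOfLE (π.preimage_mono hle)) z _ a] at h2

/-- Finite locally free morphisms of degree `d ≥ 1` have norms of degree `d`. -/
theorem hasNorm (π : X ⟶ Y) (d : ℕ) (hd : 1 ≤ d) (hπ : Mor2.IsFinLocFreeOfDeg d π) : Nrm.HasNorm π d := by
  classical
  obtain ⟨⟨h1, h2, h3⟩, hrank⟩ := hπ
  haveI := h1; haveI := h2; haveI := h3
  have hpush := H23.CoverPush.isFinLocFreeOfRank_push_of_isCover π ⟨⟨inferInstance, inferInstance, inferInstance⟩, hrank⟩
  have hex : ∀ (y : Y) (W : Y.Opens), y ∈ W → ∃ W' : Y.Opens, y ∈ W' ∧ W' ≤ W ∧ OkFree π ⊤ d W' := by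
    intro y W hy
    obtain ⟨U, hyU, ⟨e⟩⟩ := hpush y
    obtain ⟨s, hs⟩ := Frame.exists_frame e
    exact ⟨W ⊓ U, ⟨hy, hyU⟩, inf_le_left, le_top, d, _, frame_res hs inf_le_right, hd, dvd_rfl⟩
  let m : MulNorm π :=
    { ok := OkFree π ⊤ d
      exists_ok := hex
      N := fun W h => normW h
      res := fun W W' hW hW' h a => normW_res hW hW' h a
      vanish := fun W hW a y hy h hyN => by
        haveI : Surjective π := π.one_le_finrank_iff_surjective.1 fun p => (hrank p).symm ▸ hd
        exact normW_vanish hd hW a y hy h hyN }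
  refine ⟨⟨hd, m.ext, fun {U V} i s => ?_, fun U c => ?_, fun U s x hx hs => ?_⟩⟩
  · refine (m.existsUnique_ext V _).choose_spec.2 _ fun W hW h => ?_
    show AModX.resR h (AModX.resR i.le (m.ext U s)) = _
    rw [AModX.resR_resR, m.ext_res hW]
    refine congrArg _ ?_
    show AModX.resR _ s = AModX.resR _ (AModX.resR (π.preimage_mono i.le) s)
    rw [AModX.resR_resR]
  · refine ((m.existsUnique_ext U _).choose_spec.2 _ fun W hW h => ?_).symm
    show AModX.resR h (c ^ d) = normW hW _
    rw [map_pow, ← normW_const hW]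
    refine congrArg _ ?_
    exact congr($(π.naturality (homOfLE h).op).hom c)
  · obtain ⟨W, hxW, hWU, hW⟩ := hex (π x) U hx
    intro hu
    refine hs ?_
    have hv : π x ∈ Y.basicOpen (normW hW (AModX.resR (π.preimage_mono hWU) s)) := by
      rw [Y.mem_basicOpen _ (π x) hxW, show normW hW (AModX.resR (π.preimage_mono hWU) s) =
        AModX.resR hWU (m.ext U s) from (m.ext_res (W := U) hW hWU s).symm,
        show (Y.presheaf.germ W (π x) hxW).hom (AModX.resR hWU (m.ext U s)) = Y.presheaf.germ U (π x) hx (m.ext U s) from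
          TopCat.Presheaf.germ_res_apply Y.presheaf (homOfLE hWU) (π x) hxW _]
      exact hu
    have hb := (X.mem_basicOpen _ x hxW).1 (mem_basicOpen_of_normW hd hW _ x hxW hv)
    rw [← TopCat.Presheaf.germ_res_apply X.presheaf (homOfLE (π.preimage_mono hWU)) x hxW s]
    exact hb

end Groth.Agent.NormFree7
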